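import Cfsg.Agent.Spor.U693N1.D0

set_option autoImplicit false
set_option maxRecDepth 100000000
set_option Elab.async false

namespace Cfsg.Agent.Spor.U693N1

theorem ok0 : Net.okb 1 n0 = true := by decide +kernel

theorem ok1 : Net.okb 1 n1 = true := by decide +kernel

theorem ok2 : Net.okb 1 n2 = true := by decide +kernel

theorem ok3 : Net.okb 1 n3 = true := by decide +kernel

theorem ok4 : Net.okb 1 n4 = true := by decide +kernel

theorem ok5 : Net.okb 1 n5 = true := by decide +kernel

theorem ok6 : Net.okb 1 n6 = true := by decide +kernel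

theorem ok7 : Net.okb 1 n7 = true := by decide +kernel

theorem ok8 : Net.okb 1 n8 = true := by decide +kernel

theorem rel0 : T.rel 1 [1, 1] 0 1 = true := by decide +kernel

theorem rel1 : T.rel 1 [2, 2] 0 1 = true := by decide +kernel

theorem rel2 : T.rel 1 [3, 3] 0 1 = true := by decide +kernel

theorem rel3 : T.rel 1 [4, 4] 0 1 = true := by decide +kernel

theorem rel4 : T.rel 1 [5, 5] 0 1 = true := by decide +kernel

theorem rel5 : T.rel 1 [6, 6] 0 1 = true := by decide +kernel

theorem rel6 : T.rel 1 [7, 7] 0 1 = true := by decide +kernel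

theorem rel7 : T.rel 1 [8, 8] 0 1 = true := by decide +kernel

theorem rel8 : T.rel 1 [9, 9] 0 1 = true := by decide +kernel

theorem rel9 : T.rel 1 [3, 2, 3, 2, 3, 2] 0 1 = true := by decide +kernel

theorem rel10 : T.rel 1 [4, 2, 4, 2] 0 1 = true := by decide +kernel

theorem rel11 : T.rel 1 [5, 2, 5, 2] 0 1 = true := by decide +kernel

theorem rel12 : T.rel 1 [6, 2, 6, 2] 0 1 = true := by decide +kernel

theorem rel13 : T.rel 1 [7, 2, 7, 2] 0 1 = true := by decide +kernel

theorem rel14 : T.rel 1 [8, 2, 8, 2] 0 1 = true := by decide +kernel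

theorem rel15 : T.rel 1 [9, 2, 9, 2] 0 1 = true := by decide +kernel

theorem rel16 : T.rel 1 [4, 3, 4, 3, 4, 3] 0 1 = true := by decide +kernel

theorem rel17 : T.rel 1 [5, 3, 5, 3] 0 1 = true := by decide +kernel

theorem rel18 : T.rel 1 [6, 3, 6, 3] 0 1 = true := by decide +kernel

theorem rel19 : T.rel 1 [7, 3, 7, 3, 7, 3] 0 1 = true := by decide +kernel

theorem rel20 : T.rel 1 [8, 3, 8, 3] 0 1 = true := by decide +kernel

theorem rel21 : T.rel 1 [9, 3, 9, 3] 0 1 = true := by decide +kernel

theorem rel22 : T.rel 1 [5, 4, 5, 4, 5, 4] 0 1 = true := by decide +kernel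

theorem rel23 : T.rel 1 [6, 4, 6, 4] 0 1 = true := by decide +kernel

theorem rel24 : T.rel 1 [7, 4, 7, 4] 0 1 = true := by decide +kernel

theorem rel25 : T.rel 1 [8, 4, 8, 4] 0 1 = true := by decide +kernel

theorem rel26 : T.rel 1 [9, 4, 9, 4] 0 1 = true := by decide +kernel

theorem rel27 : T.rel 1 [6, 5, 6, 5, 6, 5] 0 1 = true := by decide +kernel

theorem rel28 : T.rel 1 [7, 5, 7, 5] 0 1 = true := by decide +kernel

theorem rel29 : T.rel 1 [8, 5, 8, 5] 0 1 = true := by decide +kernel

theorem rel30 : T.rel 1 [9, 5, 9, 5, 9, 5] 0 1 = true := by decide +kernel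

theorem rel31 : T.rel 1 [7, 6, 7, 6] 0 1 = true := by decide +kernel

theorem rel32 : T.rel 1 [8, 6, 8, 6] 0 1 = true := by decide +kernel

theorem rel33 : T.rel 1 [9, 6, 9, 6] 0 1 = true := by decide +kernel

theorem rel34 : T.rel 1 [8, 7, 8, 7, 8, 7] 0 1 = true := by decide +kernel

theorem rel35 : T.rel 1 [9, 7, 9, 7] 0 1 = true := by decide +kernel

theorem rel36 : T.rel 1 [9, 8, 9, 8, 9, 8] 0 1 = true := by decide +kernel

theorem rel37 : T.rel 1 [2, 1, 2, 1] 0 1 = true := by decide +kernel

theorem rel38 : T.rel 1 [3, 1, 3, 1] 0 1 = true := by decide +kernel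

theorem rel39 : T.rel 1 [4, 1, 4, 1] 0 1 = true := by decide +kernel

theorem rel40 : T.rel 1 [5, 1, 5, 1] 0 1 = true := by decide +kernel

theorem rel41 : T.rel 1 [6, 1, 6, 1] 0 1 = true := by decide +kernel

theorem rel42 : T.rel 1 [7, 1, 7, 1] 0 1 = true := by decide +kernel

theorem rel43 : T.rel 1 [8, 1, 8, 1] 0 1 = true := by decide +kernel

theorem rel44 : T.rel 1 [9, 1, 9, 1] 0 1 = true := by decide +kernel

theorem rel45 : T.rel 1 [2, 6, 5, 4, 3, 7, 8, 2, 6, 5, 4, 3, 7, 8, 2, 6, 5, 4, 3, 7, 8, 2, 6, 5, 4, 3, 7, 8, 2, 6, 5, 4, 3, 7, 8, 2, 6, 5, 4, 3, 7, 8, 2, 6, 5, 4, 3, 7, 8, 2, 6, 5, 4, 3, 7, 8, 2, 6, 5, 4, 3, 7, 8] 0 1 = true := by decide +kernel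

theorem rel46 : T.rel 1 [9, 5, 4, 3, 8, 7, 9, 5, 8, 9, 4, 3, 7, 8, 5, 9, 4, 5, 3, 4, 7, 3, 8, 7] 0 1 = true := by decide +kernel

theorem rel47 : T.rel 1 [9, 5, 4, 3, 6, 5, 4, 7, 9, 5, 6, 3, 4, 5, 9, 7, 3, 4, 5, 6, 7, 3, 4, 5, 7, 3, 4, 7, 3, 7] 0 1 = true := by decide +kernel

theorem rel48 : T.rel 1 [1, 9, 5, 4, 3, 2, 7, 3, 4, 5, 9, 7, 3, 2, 4, 5, 3, 4, 7, 3, 2, 7, 3, 4, 5, 7, 3, 4, 7, 3, 7] 0 1 = true := by decide +kernel

theorem rel49 : T.rel 1 [1] 0 1 = true := by decide +kernel

theorem rel50 : T.rel 1 [2] 0 1 = true := by decide +kernel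

theorem hcov : T.treeCov (ones 1) L 1 = true := by decide +kernel

theorem hg : lall (fun z => band (memL L z) (band (sub (ones 1) (T.let z).cl) (T.closed (ones 1) z))) gs = true := by decide +kernel

theorem hivk : ivOk (2 * 9) EX IV = true := by decide +kernel

theorem hrt : RT.ok (2 * 9) EX RL = true := by decide +kernel

theorem hdefs : defs F 28 = true := by decide +kernel

noncomputable def st0_l : List Nat := [nat_lit 0x1, nat_lit 0x8000e402, nat_lit 0x801, nat_lit 0x18000f402, nat_lit 0x1801, nat_lit 0x2000001802, nat_lit 0x218000100007e000050002180001006, nat_lit 0x280011402, nat_lit 0x80001f80002403, nat_lit 0x2800010000470000480002c05, nat_lit 0x3001, nat_lit 0x2600003002, nat_lit 0x27800028000920000b0002780002806, nat_lit 0xa00004a0002880002004, nat_lit 0x480014c02, nat_lit 0xe0001f80003c03, nat_lit 0xe0002380003c03, nat_lit 0x100002b80004403, nat_lit 0x400001c000550000780004405, nat_lit 0x120002e80004c03, nat_lit 0x4800020000590000880004c05, nat_lit 0x5001, nat_lit 0x3100005002, nat_lit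 0x32800048000b6000130003280004806, nat_lit 0xcc000600003380004004, nat_lit 0x34000198000bc000670003480003806, nat_lit 0x78001ac02, nat_lit 0x160001f80005c03, nat_lit 0x160002380005c03, nat_lit 0x160002a80005c03, nat_lit 0x180003780006403, nat_lit 0x180003880006403, nat_lit 0x600002c0006d0000b80006405, nat_lit 0x1a0003a80006c03, nat_lit 0x1a0003c80006c03, nat_lit 0x6800030000730000c80006c05, nat_lit 0x1c0003f80007403, nat_lit 0x1c0003e80007403, nat_lit 0x7000034000770000d80007405, nat_lit 0x7801, nat_lit 0x4300007802, nat_lit 0x44800070000f60001d0004480007006, nat_lit 0x114000840004580006804, nat_lit 0x46000228001000008b0004680006006, nat_lit 0x11c0008c00045000208001160008d0004780005808, nat_lit 0xb80024402, nat_lit 0x200001f80008403, nat_lit 0x8800040000470001080008c05, nat_lit 0x9001, nat_lit 0x4c00009002, nat_lit 0x4d8000880012a000230004d80008806, nat_lit 0x138000960004e80008004, nat_lit 0x1080027c02, nat_lit 0x260001f80009c03, nat_lit 0x260002380009c03, nat_lit 0x28000518000a403, nat_lit 0xa00004c000a1000138000a405,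 nat_lit 0x2a000548000ac03, nat_lit 0xa800050000a5000148000ac05, nat_lit 0xb001, nat_lit 0x570000b002, nat_lit 0x588000a80014e0002b000588000a806, nat_lit 0x164000ac000598000a004, nat_lit 0x5a0002c800154000b30005a80009806, nat_lit 0x138002dc02, nat_lit 0x2e0001f8000bc03, nat_lit 0x2e000238000bc03, nat_lit 0x2e0002a8000bc03, nat_lit 0x300005d8000c403, nat_lit 0x300005e8000c403, nat_lit 0xc00005c0006d000178000c405, nat_lit 0x32000608000cc03, nat_lit 0x32000628000cc03, nat_lit 0xc800060000bf000188000cc05, nat_lit 0x34000658000d403, nat_lit 0x34000648000d403, nat_lit 0xd000064000c3000198000d405, nat_lit 0xd801, nat_lit 0x690000d802, nat_lit 0x6a8000d00018e000350006a8000d006, nat_lit 0x1ac000d00006b8000c804, nat_lit 0x6c00035800198000d70006c8000c006, nat_lit 0x1b4000d80006b000338001ae000d90006d8000b808, nat_lit 0x1780037402]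
theorem st0 : band (steps F IV RT base st0_l 28) (Nat.beq (Nat.add 28 (llen st0_l)) 112) = true := by decide +kernel

theorem ep0a : T.treePath [] (Nat.shiftLeft 1 0) 1 = true := by decide +kernel

theorem ep0b : T.treePath [] (Nat.shiftLeft 1 0) 1 = true := by decide +kernel

theorem ep0c : band (lall (fun z => Nat.ble z 255) ([] ++ 1 :: [])) (concl F IV 112 0xe801 (encA ([] ++ 1 :: []) 0)) = true := by decide +kernel

theorem ep0d : band (Rule.ok (2 * 9) EX [] ⟨lapp [] [], [], 0, false⟩) (band (lall (memL L) []) (lall (memL L) [])) = true := by decide +kernel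

theorem cov1 : T.cover 1 [(Nat.shiftLeft 1 0)] = true := by decide +kernel

theorem tl1 : Nat.beq (T.let 1).tt 0 = true := by decide +kernel

theorem ep1a : T.treePath [] (Nat.shiftLeft 1 0) 1 = true := by decide +kernel

theorem ep1b : T.treePath [] (Nat.shiftLeft 1 0) 1 = true := by decide +kernel

theorem ep1c : band (lall (fun z => Nat.ble z 255) ([] ++ 2 :: [])) (concl F IV 112 0xf801 (encA ([] ++ 2 :: []) 0)) = true := by decide +kernel

theorem ep1d : band (Rule.ok (2 * 9) EX [] ⟨lapp [] [], [], 0, false⟩) (band (lall (memL L) []) (lall (memL L) [])) = true := by decide +kernel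

theorem cov2 : T.cover 2 [(Nat.shiftLeft 1 0)] = true := by decide +kernel

theorem tl2 : Nat.beq (T.let 2).tt 0 = true := by decide +kernel

theorem ep2a : T.treePath [] (Nat.shiftLeft 1 0) 1 = true := by decide +kernel

theorem ep2b : T.treePath [] (Nat.shiftLeft 1 0) 1 = true := by decide +kernel

theorem ep2c : band (lall (fun z => Nat.ble z 255) ([] ++ 3 :: [])) (concl F IV 112 0x11801 (encA ([] ++ 3 :: []) 0)) = true := by decide +kernel

theorem ep2d : band (Rule.ok (2 * 9) EX [] ⟨lapp [] [], [], 0, false⟩) (band (lall (memL L) []) (lall (memL L) [])) = true := by decide +kernel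

theorem cov3 : T.cover 3 [(Nat.shiftLeft 1 0)] = true := by decide +kernel

theorem tl3 : Nat.beq (T.let 3).tt 0 = true := by decide +kernel

theorem ep3a : T.treePath [] (Nat.shiftLeft 1 0) 1 = true := by decide +kernel

theorem ep3b : T.treePath [] (Nat.shiftLeft 1 0) 1 = true := by decide +kernel

theorem ep3c : band (lall (fun z => Nat.ble z 255) ([] ++ 4 :: [])) (concl F IV 112 0x15001 (encA ([] ++ 4 :: []) 0)) = true := by decide +kernel

theorem ep3d : band (Rule.ok (2 * 9) EX [] ⟨lapp [] [], [], 0, false⟩) (band (lall (memL L) []) (lall (memL L) [])) = true := by decide +kernel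

theorem cov4 : T.cover 4 [(Nat.shiftLeft 1 0)] = true := by decide +kernel

theorem tl4 : Nat.beq (T.let 4).tt 0 = true := by decide +kernel

theorem ep4a : T.treePath [] (Nat.shiftLeft 1 0) 1 = true := by decide +kernel

theorem ep4b : T.treePath [] (Nat.shiftLeft 1 0) 1 = true := by decide +kernel

theorem ep4c : band (lall (fun z => Nat.ble z 255) ([] ++ 5 :: [])) (concl F IV 112 0x1b001 (encA ([] ++ 5 :: []) 0)) = true := by decide +kernel

theorem ep4d : band (Rule.ok (2 * 9) EX [] ⟨lapp [] [], [], 0, false⟩) (band (lall (memL L) []) (lall (memL L) [])) = true := by decide +kernel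

theorem cov5 : T.cover 5 [(Nat.shiftLeft 1 0)] = true := by decide +kernel

theorem tl5 : Nat.beq (T.let 5).tt 0 = true := by decide +kernel

theorem ep5a : T.treePath [] (Nat.shiftLeft 1 0) 1 = true := by decide +kernel

theorem ep5b : T.treePath [] (Nat.shiftLeft 1 0) 1 = true := by decide +kernel

theorem ep5c : band (lall (fun z => Nat.ble z 255) ([] ++ 6 :: [])) (concl F IV 112 0x24801 (encA ([] ++ 6 :: []) 0)) = true := by decide +kernel

theorem ep5d : band (Rule.ok (2 * 9) EX [] ⟨lapp [] [], [], 0, false⟩) (band (lall (memL L) []) (lall (memL L) [])) = true := by decide +kernel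

theorem cov6 : T.cover 6 [(Nat.shiftLeft 1 0)] = true := by decide +kernel

theorem tl6 : Nat.beq (T.let 6).tt 0 = true := by decide +kernel

theorem ep6a : T.treePath [] (Nat.shiftLeft 1 0) 1 = true := by decide +kernel

theorem ep6b : T.treePath [] (Nat.shiftLeft 1 0) 1 = true := by decide +kernel

theorem ep6c : band (lall (fun z => Nat.ble z 255) ([] ++ 7 :: [])) (concl F IV 112 0x28001 (encA ([] ++ 7 :: []) 0)) = true := by decide +kernel

theorem ep6d : band (Rule.ok (2 * 9) EX [] ⟨lapp [] [], [], 0, false⟩) (band (lall (memL L) []) (lall (memL L) [])) = true := by decide +kernel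

theorem cov7 : T.cover 7 [(Nat.shiftLeft 1 0)] = true := by decide +kernel

theorem tl7 : Nat.beq (T.let 7).tt 0 = true := by decide +kernel

theorem ep7a : T.treePath [] (Nat.shiftLeft 1 0) 1 = true := by decide +kernel

theorem ep7b : T.treePath [] (Nat.shiftLeft 1 0) 1 = true := by decide +kernel

theorem ep7c : band (lall (fun z => Nat.ble z 255) ([] ++ 8 :: [])) (concl F IV 112 0x2e001 (encA ([] ++ 8 :: []) 0)) = true := by decide +kernel

theorem ep7d : band (Rule.ok (2 * 9) EX [] ⟨lapp [] [], [], 0, false⟩) (band (lall (memL L) []) (lall (memL L) [])) = true := by decide +kernel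

theorem cov8 : T.cover 8 [(Nat.shiftLeft 1 0)] = true := by decide +kernel

theorem tl8 : Nat.beq (T.let 8).tt 0 = true := by decide +kernel

theorem ep8a : T.treePath [] (Nat.shiftLeft 1 0) 1 = true := by decide +kernel

theorem ep8b : T.treePath [] (Nat.shiftLeft 1 0) 1 = true := by decide +kernel

theorem ep8c : band (lall (fun z => Nat.ble z 255) ([] ++ 9 :: [])) (concl F IV 112 0x37801 (encA ([] ++ 9 :: []) 0)) = true := by decide +kernel

theorem ep8d : band (Rule.ok (2 * 9) EX [] ⟨lapp [] [], [], 0, false⟩) (band (lall (memL L) []) (lall (memL L) [])) = true := by decide +kernel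

theorem cov9 : T.cover 9 [(Nat.shiftLeft 1 0)] = true := by decide +kernel

theorem tl9 : Nat.beq (T.let 9).tt 0 = true := by decide +kernel

end Cfsg.Agent.Spor.U693N1
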