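import Cfsg.Agent.Spor.Chk

set_option autoImplicit false
set_option maxRecDepth 100000000
set_option Elab.async false
noncomputable section

namespace Cfsg.Agent.Spor.U693N1

def n0 : Net := Net.nil

def n1 : Net := Net.nil

def n2 : Net := Net.nil

def n3 : Net := Net.nil

def n4 : Net := Net.nil

def n5 : Net := Net.nil

def n6 : Net := Net.nil

def n7 : Net := Net.nil

def n8 : Net := Net.nil

def ip1 : List Nat := []
def l1 : Let := ⟨0, false, 0x1, 0x0, [0x0]⟩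

def ip2 : List Nat := []
def l2 : Let := ⟨1, false, 0x1, 0x0, [0x0]⟩

def ip3 : List Nat := []
def l3 : Let := ⟨2, false, 0x1, 0x0, [0x0]⟩

def ip4 : List Nat := []
def l4 : Let := ⟨3, false, 0x1, 0x0, [0x0]⟩

def ip5 : List Nat := []
def l5 : Let := ⟨4, false, 0x1, 0x0, [0x0]⟩

def ip6 : List Nat := []
def l6 : Let := ⟨5, false, 0x1, 0x0, [0x0]⟩

def ip7 : List Nat := []
def l7 : Let := ⟨6, false, 0x1, 0x0, [0x0]⟩

def ip8 : List Nat := []
def l8 : Let := ⟨7, false, 0x1, 0x0, [0x0]⟩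

def ip9 : List Nat := []
def l9 : Let := ⟨8, false, 0x1, 0x0, [0x0]⟩

def F : Nat := nat_lit 0x90000000000000001800018000001900019000001a0001a000001b0001b020001b0001b000001c0001b040001b0001b090001b0001b050001b0001a050001a0001a090001a0001a020001a00019090001900019030001900019020001900018040001800018030001800018020001800000080000000000000001400014000001500015000001600016020001600016000001700016070001600016080001600015080001500015020001500014030001400014020001400000070000000000000001100011000001200012020001200012000001300012070001200011020001100000060000000000000000c0000c000000d0000d000000e0000e000000f0000f020000f0000f00000100000f040000f0000f060000f0000f050000f0000e050000e0000e060000e0000e020000e0000d060000d0000d030000d0000d020000d0000c040000c0000c030000c0000c020000c00000050000000000000000800008000000900009000000a0000a020000a0000a000000b0000a040000a0000a050000a000090500009000090200009000080300008000080200008000000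4000000000000000050000500000060000602000060000600000070000604000060000502000050000003000000000000000030000302000030000300000040000002000000000000000020000001000000000000000010001c020001b0001b030001a0001a040001900019050001800018090000000017020001600016030001500015070001400014080000000013020001200012030001100011070000000010020000f0000f030000e0000e040000d0000d050000c0000c06000000000b020000a0000a0300009000090400008000080500000000070200006000060300005000050400000000040200003000030300000000020200000000010100000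

def rt0_9 : RTree := RTree.node 0x303 ⟨[3, 3], [], 42, false⟩ (RTree.node 0x101 ⟨[1, 1], [], 42, false⟩ (RTree.node 0x2 ⟨[2], [], 41, true⟩ (RTree.node 0x1 ⟨[1], [], 40, true⟩ (RTree.leaf) (RTree.leaf)) (RTree.leaf)) (RTree.node 0x202 ⟨[2, 2], [], 42, false⟩ (RTree.leaf) (RTree.leaf))) (RTree.node 0x606 ⟨[6, 6], [], 42, false⟩ (RTree.node 0x505 ⟨[5, 5], [], 42, false⟩ (RTree.node 0x404 ⟨[4, 4], [], 42, false⟩ (RTree.leaf) (RTree.leaf)) (RTree.leaf)) (RTree.node 0x707 ⟨[7, 7], [], 42, false⟩ (RTree.leaf) (RTree.leaf)))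
def rt10_18 : RTree := RTree.node 0x2070207 ⟨[2, 7, 2, 7], [], 4, false⟩ (RTree.node 0x2050205 ⟨[2, 5, 2, 5], [], 2, false⟩ (RTree.node 0x2040204 ⟨[2, 4, 2, 4], [], 1, false⟩ (RTree.node 0x909 ⟨[9, 9], [], 42, false⟩ (RTree.leaf) (RTree.leaf)) (RTree.leaf)) (RTree.node 0x2060206 ⟨[2, 6, 2, 6], [], 3, false⟩ (RTree.leaf) (RTree.leaf))) (RTree.node 0x2090209 ⟨[2, 9, 2, 9], [], 6, false⟩ (RTree.node 0x2080208 ⟨[2, 8, 2, 8], [], 5, false⟩ (RTree.leaf) (RTree.leaf)) (RTree.node 0x3050305 ⟨[3, 5, 3, 5], [], 8, false⟩ (RTree.leaf) (RTree.leaf)))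
def rt0_18 : RTree := RTree.node 0x808 ⟨[8, 8], [], 42, false⟩ (rt0_9) (rt10_18)
def rt19_27 : RTree := RTree.node 0x5030503 ⟨[5, 3, 5, 3], [], 8, true⟩ (RTree.node 0x4060406 ⟨[4, 6, 4, 6], [], 14, false⟩ (RTree.node 0x3090309 ⟨[3, 9, 3, 9], [], 12, false⟩ (RTree.node 0x3080308 ⟨[3, 8, 3, 8], [], 11, false⟩ (RTree.leaf) (RTree.leaf)) (RTree.leaf)) (RTree.node 0x4090409 ⟨[4, 9, 4, 9], [], 17, false⟩ (RTree.leaf) (RTree.leaf))) (RTree.node 0x6040604 ⟨[6, 4, 6, 4], [], 14, true⟩ (RTree.node 0x6030603 ⟨[6, 3, 6, 3], [], 9, true⟩ (RTree.leaf) (RTree.leaf)) (RTree.node 0x8030803 ⟨[8, 3, 8, 3], [], 11, true⟩ (RTree.leaf) (RTree.leaf)))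
def rt28_36 : RTree := RTree.node 0x60506050605 ⟨[6, 5, 6, 5, 6, 5], [], 18, true⟩ (RTree.node 0x40304030403 ⟨[4, 3, 4, 3, 4, 3], [], 7, true⟩ (RTree.node 0x30203020302 ⟨[3, 2, 3, 2, 3, 2], [], 0, true⟩ (RTree.node 0x9040904 ⟨[9, 4, 9, 4], [], 17, true⟩ (RTree.leaf) (RTree.leaf)) (RTree.leaf)) (RTree.node 0x50405040504 ⟨[5, 4, 5, 4, 5, 4], [], 13, true⟩ (RTree.leaf) (RTree.leaf))) (RTree.node 0x80708070807 ⟨[8, 7, 8, 7, 8, 7], [], 25, true⟩ (RTree.node 0x70307030703 ⟨[7, 3, 7, 3, 7, 3], [], 10, true⟩ (RTree.leaf) (RTree.leaf)) (RTree.node 0x90509050905 ⟨[9, 5, 9, 5, 9, 5], [], 21, true⟩ (RTree.leaf) (RTree.leaf)))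
def rt19_36 : RTree := RTree.node 0x9030903 ⟨[9, 3, 9, 3], [], 12, true⟩ (rt19_27) (rt28_36)
def rt0_36 : RTree := RTree.node 0x3060306 ⟨[3, 6, 3, 6], [], 9, false⟩ (rt0_18) (rt19_36)
def RT : RTree := rt0_36

def NT : List Net := [n0, n1, n2, n3, n4, n5, n6, n7, n8]
def LT : List Let := [⟨0, false, 0, 0, []⟩, l1, l2, l3, l4, l5, l6, l7, l8, l9]
def T : Tab := ⟨NT, LT⟩
def EX : List (List Nat) := [[], [0], [2], [4], [6], [8], [10], [12], [14], [16]]
def RL : List (List Nat) := [[2, 4, 2, 4, 2, 4], [2, 6, 2, 6], [2, 8, 2, 8], [2, 10, 2, 10], [2, 12, 2, 12], [2, 14, 2, 14], [2, 16, 2, 16], [4, 6, 4, 6, 4, 6], [4, 8, 4, 8], [4, 10, 4, 10], [4, 12, 4, 12, 4, 12], [4, 14, 4, 14], [4, 16, 4, 16], [6, 8, 6, 8, 6, 8], [6, 10, 6, 10], [6, 12, 6, 12], [6, 14, 6, 14], [6, 16, 6, 16], [8, 10, 8, 10, 8, 10], [8, 12, 8, 12], [8, 14, 8, 14], [8, 16, 8, 16, 8, 16], [10, 12, 10, 12], [10, 14, 10, 14], [10, 16, 10, 16], [12, 14,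 12, 14, 12, 14], [12, 16, 12, 16], [14, 16, 14, 16, 14, 16], [0, 2, 0, 2], [0, 4, 0, 4], [0, 6, 0, 6], [0, 8, 0, 8], [0, 10, 0, 10], [0, 12, 0, 12], [0, 14, 0, 14], [0, 16, 0, 16], [14, 12, 4, 6, 8, 10, 2, 14, 12, 4, 6, 8, 10, 2, 14, 12, 4, 6, 8, 10, 2, 14, 12, 4, 6, 8, 10, 2, 14, 12, 4, 6, 8, 10, 2, 14, 12, 4, 6, 8, 10, 2, 14, 12, 4, 6, 8, 10, 2, 14, 12, 4, 6, 8, 10, 2, 14, 12, 4, 6, 8, 10, 2], [12, 14, 4, 12, 6, 4, 8, 6, 16, 8, 14, 12, 4, 6, 16, 14, 8, 16, 12, 14, 4, 6, 8, 16], [12, 4, 12, 6, 4, 12, 8, 6, 4, 12, 10, 8, 6, 4, 12, 16, 8, 6, 4, 10, 8, 16, 12, 6, 8, 10, 4, 6, 8, 16], [12, 4, 12, 6, 4, 12, 8, 6, 4, 12, 2, 4, 12, 6, 4, 8, 6, 2, 4, 12, 16, 8, 6, 4, 12, 2, 4, 6, 8, 16, 0], [0], [2]]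
def XL : List (List Nat) := []
def BW : List (List Nat) := []
def IV : Nat := 0x9080706050403020100
def L : List Nat := [1, 2, 3, 4, 5, 6, 7, 8, 9]
def gs : List Nat := [1, 2, 3, 4, 5, 6, 7, 8, 9]
def base : List Nat := []

end Cfsg.Agent.Spor.U693N1
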